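import Mathlib
import Groth.Agent.S2049
import Groth.Agent.S0563

/-!
# Projective dimension over local rings essentially of finite presentation and flat over a valuation ring
-/

set_option autoImplicit false
set_option linter.style.haveILetI false
set_option linter.unusedSectionVars false
set_option backward.isDefEq.respectTransparency false

universe u

namespace Groth.Agent.H4ValPd

open CategoryTheory

variable {V A : Type u} [CommRing V] [IsDomain V] [ValuationRing V] [CommRing A] [IsLocalRing A]
  [Algebra V A]

/-- `M` is torsion-free over `V` (via `V → A`). -/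
def TF (V : Type u) [CommRing V] (A : Type u) [CommRing A] [Algebra V A] (M : Type u)
    [AddCommGroup M] [Module A M] : Prop :=
  ∀ v : V, v ≠ 0 → ∀ x : M, algebraMap V A v • x = 0 → x = 0

theorem TF.submodule {M : Type u} [AddCommGroup M] [Module A M] (h : TF V A M) (N : Submodule A M) :
    TF V A N :=
  fun v hv x hx => Subtype.ext (h v hv x (by simpa using congrArg Subtype.val hx))

theorem TF.pi {ι : Type u} (h : TF V A A) : TF V A (ι → A) :=
  fun v hv x hx => funext fun i => h v hv (x i) (congrFun hx i)

theorem exists_eq_mul (p : Ideal V) {r : A} (hr : r ∈ p.map (algebraMap V A)) :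
    ∃ a ∈ p, ∃ b, r = algebraMap V A a * b := by
  induction hr using Submodule.span_induction with
  | mem x hx =>
    obtain ⟨a, ha, rfl⟩ := hx
    exact ⟨a, ha, 1, (mul_one _).symm⟩
  | zero => exact ⟨0, p.zero_mem, 0, by simp⟩
  | add x y _ _ hx hy =>
    obtain ⟨a, ha, b, rfl⟩ := hx
    obtain ⟨a', ha', b', rfl⟩ := hy
    rcases ValuationRing.dvd_total a a' with ⟨c, rfl⟩ | ⟨c, rfl⟩
    · exact ⟨a, ha, b + algebraMap V A c * b', by rw [map_mul]; ring⟩
    · exact ⟨a', ha', algebraMap V A c * b + b', by rw [map_mul]; ring⟩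
  | smul c x _ hx =>
    obtain ⟨a, ha, b, rfl⟩ := hx
    exact ⟨a, ha, c * b, by rw [smul_eq_mul]; ring⟩

theorem exists_eq_smul (p : Ideal V) {M : Type u} [AddCommGroup M] [Module A M] {x : M}
    (hx : x ∈ p.map (algebraMap V A) • (⊤ : Submodule A M)) :
    ∃ a ∈ p, ∃ y : M, x = algebraMap V A a • y := by
  refine Submodule.smul_induction_on hx (fun r hr y _ => ?_) (fun x y hx hy => ?_)
  · obtain ⟨a, ha, b, rfl⟩ := exists_eq_mul p hr
    exact ⟨a, ha, b • y, mul_smul _ _ _⟩
  · obtain ⟨a, ha, b, rfl⟩ := hx
    obtain ⟨a', ha', b', rfl⟩ := hy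
    rcases ValuationRing.dvd_total a a' with ⟨c, rfl⟩ | ⟨c, rfl⟩
    · exact ⟨a, ha, b + algebraMap V A c • b', by rw [map_mul, smul_add, mul_smul]⟩
    · exact ⟨a', ha', algebraMap V A c • b + b', by rw [map_mul, smul_add, mul_smul]⟩

theorem mem_pi_smul_top (I : Ideal A) {ι : Type u} [Fintype ι] (x : ι → A) (hx : ∀ i, x i ∈ I) :
    x ∈ I • (⊤ : Submodule A (ι → A)) := by
  classical
  rw [pi_eq_sum_univ' x]
  exact Submodule.sum_mem _ fun i _ => Submodule.smul_mem_smul (hx i) Submodule.mem_top

theorem pi_apply_mem (I : Ideal A) {ι : Type u} {x : ι → A}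
    (hx : x ∈ I • (⊤ : Submodule A (ι → A))) (i : ι) : x i ∈ I := by
  refine Submodule.smul_induction_on hx (fun r hr y _ => ?_) fun x y hx hy => I.add_mem hx hy
  exact I.mul_mem_right _ hr

/-- The key kernel computation: a vector of a free module which is `0` modulo `p` and maps to `0`
in a torsion-free module is `p` times a vector of the kernel. -/
theorem mem_smul_ker (p : Ideal V) {F M : Type u} [AddCommGroup F] [Module A F] [AddCommGroup M]
    [Module A M] (f : F →ₗ[A] M) (hM : TF V A M) (x : LinearMap.ker f)
    (hx : (x : F) ∈ p.map (algebraMap V A) • (⊤ : Submodule A F)) :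
    x ∈ p.map (algebraMap V A) • (⊤ : Submodule A (LinearMap.ker f)) := by
  obtain ⟨a, ha, y, hy⟩ := exists_eq_smul p hx
  by_cases h0 : a = 0
  · have : x = 0 := Subtype.ext (by rw [hy, h0, map_zero, zero_smul]; rfl)
    rw [this]
    exact zero_mem _
  · have hfy : f y = 0 := hM a h0 _ (by rw [← map_smul, ← hy]; exact x.2)
    have : x = algebraMap V A a • (⟨y, hfy⟩ : LinearMap.ker f) := Subtype.ext hy
    rw [this]
    exact Submodule.smul_mem_smul (Ideal.mem_map_of_mem _ ha) Submodule.mem_top

variable (p : Ideal V) (hp : p.map (algebraMap V A) ≤ IsLocalRing.maximalIdeal A)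
  (hfp : ∀ (M : Type u) [AddCommGroup M] [Module A M] [Module.Finite A M],
    TF V A M → Module.FinitePresentation A M)

include hp hfp in
/-- A finite torsion-free module whose reduction is free is free. -/
theorem free_of (M : Type u) [AddCommGroup M] [Module A M] [Module.Finite A M] (hM : TF V A M)
    [Module.Free (A ⧸ p.map (algebraMap V A)) (M ⧸ p.map (algebraMap V A) • (⊤ : Submodule A M))] :
    Module.Free A M := by
  classical
  set I := p.map (algebraMap V A)
  haveI : Nontrivial (A ⧸ I) := Ideal.Quotient.nontrivial_iff.2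
    fun h => (IsLocalRing.maximalIdeal.isMaximal A).ne_top (top_le_iff.1 (h ▸ hp))
  haveI : Module.Finite A (M ⧸ I • (⊤ : Submodule A M)) := inferInstance
  haveI : Module.Finite (A ⧸ I) (M ⧸ I • (⊤ : Submodule A M)) :=
    Module.Finite.of_restrictScalars_finite A (A ⧸ I) (M ⧸ I • (⊤ : Submodule A M))
  let b := Module.Free.chooseBasis (A ⧸ I) (M ⧸ I • (⊤ : Submodule A M))
  have hl : ∀ i, ∃ m : M, Submodule.Quotient.mk m = b i := fun i => Submodule.Quotient.mk_surjective _ (b i)
  choose m hm using hl
  let f := Fintype.linearCombination A m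
  have hmk : ∀ c, (Submodule.Quotient.mk (f c) : M ⧸ I • (⊤ : Submodule A M)) =
      ∑ i, (Ideal.Quotient.mk I (c i)) • b i := by
    intro c
    rw [Fintype.linearCombination_apply, ← Submodule.mkQ_apply, map_sum]
    refine Finset.sum_congr rfl fun i _ => ?_
    rw [map_smul, Submodule.mkQ_apply, hm, ← Ideal.Quotient.algebraMap_eq, algebraMap_smul]
  have hsurj : Function.Surjective f := by
    rw [← LinearMap.range_eq_top]
    refine top_le_iff.1 (Submodule.le_of_le_smul_of_le_jacobson_bot (I := I) Module.Finite.fg_top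
      (hp.trans (IsLocalRing.maximalIdeal_le_jacobson _)) ?_)
    intro z _
    have hz := b.sum_repr (Submodule.Quotient.mk z)
    have hc : ∀ i, ∃ c : A, Ideal.Quotient.mk I c = b.repr (Submodule.Quotient.mk z) i := fun i =>
      Ideal.Quotient.mk_surjective _
    choose c hc using hc
    refine Submodule.mem_sup.2 ⟨f c, LinearMap.mem_range_self _ _, z - f c, ?_, by abel⟩
    rw [← Submodule.Quotient.mk_eq_zero, Submodule.Quotient.mk_sub, hmk]
    simp only [hc, hz, sub_self]
  haveI := hfp M hM
  have hfg : (LinearMap.ker f).FG := Module.FinitePresentation.fg_ker f hsurj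
  have hker : LinearMap.ker f = ⊥ := by
    refine Submodule.eq_bot_of_le_smul_of_le_jacobson_bot I _ hfg ?_
      (hp.trans (IsLocalRing.maximalIdeal_le_jacobson _))
    intro x hx
    have h0 : ∑ i, (Ideal.Quotient.mk I (x i)) • b i = 0 := by
      rw [← hmk, LinearMap.mem_ker.1 hx, Submodule.Quotient.mk_zero]
    have hxI := Fintype.linearIndependent_iff.1 b.linearIndependent _ h0
    have h := mem_smul_ker p f hM ⟨x, hx⟩ (mem_pi_smul_top I x fun i => Ideal.Quotient.eq_zero_iff_mem.1 (hxI i))
    have h' := Submodule.mem_map_of_mem (f := (LinearMap.ker f).subtype) h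
    rwa [Submodule.map_smul'', Submodule.map_top, Submodule.range_subtype] at h'
  exact Module.Free.of_equiv (LinearEquiv.ofBijective f ⟨LinearMap.ker_eq_bot.1 hker, hsurj⟩)

theorem finite_ker_of_fp {ι : Type u} [Fintype ι] {M : Type u} [AddCommGroup M] [Module A M]
    [Module.FinitePresentation A M] (f : (ι → A) →ₗ[A] M) (hf : Function.Surjective f) :
    Module.Finite A (LinearMap.ker f) :=
  Module.Finite.iff_fg.2 (Module.FinitePresentation.fg_ker f hf)

theorem exists_pres (M : Type u) [AddCommGroup M] [Module A M] [Module.Finite A M] :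
    ∃ (r : ℕ) (f : (ULift.{u} (Fin r) → A) →ₗ[A] M), Function.Surjective f := by
  obtain ⟨r, g, hg⟩ := Module.Finite.exists_fin' A M
  exact ⟨r, g.comp (LinearMap.funLeft A A (fun i => ULift.up i)),
    hg.comp (LinearMap.funLeft_surjective_of_injective A A _ ULift.up_injective)⟩

theorem fg_ker_of {R P Q : Type u} [CommRing R] [AddCommGroup P] [Module R P] [Module.Finite R P]
    [AddCommGroup Q] [Module R Q] (g : P →ₗ[R] Q) [Module.FinitePresentation R (LinearMap.range g)] :
    (LinearMap.ker g).FG := by
  have hs : Function.Surjective g.rangeRestrict := fun y => by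
    obtain ⟨x, hx⟩ := y.2
    exact ⟨x, Subtype.ext hx⟩
  have h := Module.FinitePresentation.fg_ker (l := g.rangeRestrict) hs
  rwa [LinearMap.ker_rangeRestrict] at h

/-- the short complex `ker f → F → M` -/
theorem shortExact_ker {R : Type u} [CommRing R] {F M : Type u} [AddCommGroup F] [Module R F]
    [AddCommGroup M] [Module R M] (f : F →ₗ[R] M) (hf : Function.Surjective f) :
    (ShortComplex.mk (ModuleCat.ofHom (LinearMap.ker f).subtype) (ModuleCat.ofHom f)
      (ModuleCat.hom_ext (LinearMap.ext fun x => x.2))).ShortExact where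
  exact := (ShortComplex.ShortExact.moduleCat_exact_iff_function_exact _).2 (LinearMap.exact_subtype_ker_map f)
  mono_f := (ModuleCat.mono_iff_injective _).2 Subtype.val_injective
  epi_g := (ModuleCat.epi_iff_surjective _).2 hf

theorem shortExact_mk {R X Y Z : Type u} [CommRing R] [AddCommGroup X] [Module R X] [AddCommGroup Y]
    [Module R Y] [AddCommGroup Z] [Module R Z] (g₁ : X →ₗ[R] Y) (g₂ : Y →ₗ[R] Z)
    (h₁ : Function.Injective g₁) (h₂ : Function.Surjective g₂) (h : Function.Exact g₁ g₂) :
    (ShortComplex.mk (ModuleCat.ofHom g₁) (ModuleCat.ofHom g₂)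
      (ModuleCat.hom_ext (LinearMap.ext fun x => (h _).2 ⟨x, rfl⟩))).ShortExact where
  exact := (ShortComplex.ShortExact.moduleCat_exact_iff_function_exact _).2 h
  mono_f := (ModuleCat.mono_iff_injective _).2 h₁
  epi_g := (ModuleCat.epi_iff_surjective _).2 h₂

theorem projective_free (R : Type u) [CommRing R] (F : Type u) [AddCommGroup F] [Module R F]
    [Module.Projective R F] : Projective (ModuleCat.of R F) :=
  (IsProjective.iff_projective (R := R) F).1 inferInstance

theorem reduction_pd {ι : Type u} [Fintype ι] {M : Type u} [AddCommGroup M] [Module A M]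
    (f : (ι → A) →ₗ[A] M) (hf : Function.Surjective f) (hM : TF V A M) (n : ℕ)
    (h : HasProjectiveDimensionLT (ModuleCat.of (A ⧸ p.map (algebraMap V A))
      (M ⧸ p.map (algebraMap V A) • (⊤ : Submodule A M))) (n + 2)) :
    HasProjectiveDimensionLT (ModuleCat.of (A ⧸ p.map (algebraMap V A))
      (LinearMap.ker f ⧸ p.map (algebraMap V A) • (⊤ : Submodule A (LinearMap.ker f)))) (n + 1) := by
  classical
  set I := p.map (algebraMap V A)
  have hmk : Function.Surjective (algebraMap A (A ⧸ I)) := Ideal.Quotient.mk_surjective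
  let π : (ι → A) →ₗ[A] (ι → A ⧸ I) := LinearMap.pi fun i => (Algebra.linearMap A (A ⧸ I)).comp (LinearMap.proj i)
  have hπ : LinearMap.ker π = I • (⊤ : Submodule A (ι → A)) := by
    ext x
    constructor
    · exact fun hx => mem_pi_smul_top I x fun i => Ideal.Quotient.eq_zero_iff_mem.1 (congrFun hx i)
    · exact fun hx => funext fun i => Ideal.Quotient.eq_zero_iff_mem.2 (pi_apply_mem I hx i)
  have hπs : Function.Surjective π := fun y =>
    ⟨fun i => (Ideal.Quotient.mk_surjective (y i)).choose,
      funext fun i => (Ideal.Quotient.mk_surjective (y i)).choose_spec⟩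
  let K := LinearMap.ker f
  let g₁ : (K ⧸ I • (⊤ : Submodule A K)) →ₗ[A] (ι → A ⧸ I) :=
    (I • (⊤ : Submodule A K)).liftQ (π.comp K.subtype) (by
      intro x hx
      rw [LinearMap.mem_ker, LinearMap.comp_apply]
      have hx' := Submodule.mem_map_of_mem (f := K.subtype) hx
      rw [Submodule.map_smul''] at hx'
      have hx'' : (x : ι → A) ∈ I • (⊤ : Submodule A (ι → A)) := Submodule.smul_mono le_rfl le_top hx'
      rw [← hπ] at hx''
      exact hx'')
  let g₂ : (ι → A ⧸ I) →ₗ[A] (M ⧸ I • (⊤ : Submodule A M)) :=
    ((LinearMap.ker π).liftQ ((I • (⊤ : Submodule A M)).mkQ.comp f) (by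
      rw [hπ]
      intro x hx
      rw [LinearMap.mem_ker, LinearMap.comp_apply, Submodule.mkQ_apply, Submodule.Quotient.mk_eq_zero]
      have hx' := Submodule.mem_map_of_mem (f := f) hx
      rw [Submodule.map_smul''] at hx'
      exact Submodule.smul_mono le_rfl le_top hx')).comp (π.quotKerEquivOfSurjective hπs).symm.toLinearMap
  have hg₂ : ∀ x, g₂ (π x) = Submodule.Quotient.mk (f x) := by
    intro x
    simp only [g₂, LinearMap.comp_apply, LinearEquiv.coe_coe]
    rw [show (π.quotKerEquivOfSurjective hπs).symm (π x) = Submodule.Quotient.mk x from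
      (LinearEquiv.symm_apply_eq _).2 rfl]
    rfl
  let h₁ : (K ⧸ I • (⊤ : Submodule A K)) →ₗ[A ⧸ I] (ι → A ⧸ I) :=
    LinearMap.extendScalarsOfSurjective hmk g₁
  let h₂ : (ι → A ⧸ I) →ₗ[A ⧸ I] (M ⧸ I • (⊤ : Submodule A M)) :=
    LinearMap.extendScalarsOfSurjective hmk g₂
  have hinj : Function.Injective h₁ := by
    refine (injective_iff_map_eq_zero g₁).2 fun z hz => ?_
    obtain ⟨x, rfl⟩ := Submodule.Quotient.mk_surjective _ z
    rw [Submodule.Quotient.mk_eq_zero]
    exact mem_smul_ker p f hM x (hπ ▸ (hz : π x = 0))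
  have hsurj : Function.Surjective h₂ := by
    intro z
    obtain ⟨m, rfl⟩ := Submodule.Quotient.mk_surjective _ z
    obtain ⟨x, rfl⟩ := hf m
    exact ⟨π x, hg₂ x⟩
  have hexact : Function.Exact h₁ h₂ := by
    intro y
    obtain ⟨x, rfl⟩ := hπs y
    constructor
    · intro hy
      replace hy : Submodule.Quotient.mk (f x) = (0 : M ⧸ I • (⊤ : Submodule A M)) := (hg₂ x).symm.trans hy
      rw [Submodule.Quotient.mk_eq_zero] at hy
      have hle : I • (⊤ : Submodule A M) ≤ (I • (⊤ : Submodule A (ι → A))).map f := by
        rw [Submodule.map_smul'', Submodule.map_top, LinearMap.range_eq_top.2 hf]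
      obtain ⟨w, hw, hwe⟩ := hle hy
      refine ⟨Submodule.Quotient.mk (⟨x - w, by rw [LinearMap.mem_ker, map_sub, hwe, sub_self]⟩ : K), ?_⟩
      show π (x - w) = π x
      rw [map_sub, LinearMap.mem_ker.1 (hπ ▸ hw : w ∈ LinearMap.ker π), sub_zero]
    · rintro ⟨z, hz⟩
      obtain ⟨w, rfl⟩ := Submodule.Quotient.mk_surjective _ z
      show g₂ (π x) = 0
      have hz' : π (w : ι → A) = π x := hz
      rw [← hz', hg₂, LinearMap.mem_ker.1 w.2, Submodule.Quotient.mk_zero]
  have hS : (ShortComplex.mk (ModuleCat.ofHom h₁) (ModuleCat.ofHom h₂)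
      (ModuleCat.hom_ext (LinearMap.ext fun z => (hexact _).2 ⟨z, rfl⟩))).ShortExact :=
    { exact := (ShortComplex.ShortExact.moduleCat_exact_iff_function_exact _).2 hexact
      mono_f := (ModuleCat.mono_iff_injective _).2 hinj
      epi_g := (ModuleCat.epi_iff_surjective _).2 hsurj }
  haveI := projective_free (A ⧸ I) (ι → A ⧸ I)
  exact hS.hasProjectiveDimensionLT_X₁ (n + 1) inferInstance h

include hp hfp in
/-- the projective dimension can be read off from the reduction modulo `p` -/
theorem pd_of_reduction (hA : TF V A A) : ∀ (n : ℕ) (M : Type u) [AddCommGroup M] [Module A M]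
    [Module.Finite A M], TF V A M →
    HasProjectiveDimensionLT (ModuleCat.of (A ⧸ p.map (algebraMap V A))
      (M ⧸ p.map (algebraMap V A) • (⊤ : Submodule A M))) (n + 1) →
    HasProjectiveDimensionLT (ModuleCat.of A M) (n + 1) := by
  intro n
  induction n with
  | zero =>
    intro M _ _ _ hM h
    set I := p.map (algebraMap V A)
    haveI : Nontrivial (A ⧸ I) := Ideal.Quotient.nontrivial_iff.2
      fun h => (IsLocalRing.maximalIdeal.isMaximal A).ne_top (top_le_iff.1 (h ▸ hp))
    haveI : IsLocalRing (A ⧸ I) := IsLocalRing.of_surjective' _ Ideal.Quotient.mk_surjective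
    haveI : Module.Finite (A ⧸ I) (M ⧸ I • (⊤ : Submodule A M)) :=
      Module.Finite.of_restrictScalars_finite A (A ⧸ I) (M ⧸ I • (⊤ : Submodule A M))
    haveI : Projective (ModuleCat.of (A ⧸ I) (M ⧸ I • (⊤ : Submodule A M))) :=
      projective_iff_hasProjectiveDimensionLT_one.2 h
    haveI : Module.Projective (A ⧸ I) (M ⧸ I • (⊤ : Submodule A M)) :=
      (IsProjective.iff_projective (R := A ⧸ I) (M ⧸ I • (⊤ : Submodule A M))).2 inferInstance
    haveI : Module.Free (A ⧸ I) (M ⧸ I • (⊤ : Submodule A M)) := Module.free_of_flat_of_isLocalRing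
    haveI := free_of p hp hfp M hM
    haveI := projective_free A M
    exact projective_iff_hasProjectiveDimensionLT_one.1 inferInstance
  | succ n ih =>
    intro M _ _ _ hM h
    obtain ⟨r, f, hf⟩ := exists_pres (A := A) M
    haveI := hfp M hM
    haveI := finite_ker_of_fp f hf
    have hK := ih (LinearMap.ker f) ((TF.pi hA).submodule _) (reduction_pd p f hf hM n h)
    haveI := projective_free A (ULift.{u} (Fin r) → A)
    exact (shortExact_ker f hf).hasProjectiveDimensionLT_X₃ (n + 1) hK inferInstance

section Localization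

variable {V : Type u} [CommRing V] [IsDomain V] [ValuationRing V] (B : Type u) [CommRing B]
  [Algebra V B]

instance valuationRing_localization (p : Ideal V) [p.IsPrime] :
    ValuationRing (Localization.AtPrime p) := by
  haveI : PreValuationRing (Localization.AtPrime p) := by
    rw [PreValuationRing.iff_dvd_total]
    refine ⟨fun x y => ?_⟩
    obtain ⟨a, s, rfl⟩ := IsLocalization.exists_mk'_eq p.primeCompl x
    obtain ⟨b, t, rfl⟩ := IsLocalization.exists_mk'_eq p.primeCompl y
    have hu : ∀ (a : V) (s : p.primeCompl), Associated (IsLocalization.mk' (Localization.AtPrime p) a s)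
        (algebraMap V (Localization.AtPrime p) a) := fun a s =>
      ⟨(IsLocalization.map_units (Localization.AtPrime p) s).unit, by simp⟩
    rw [(hu a s).dvd_iff_dvd_left, (hu b t).dvd_iff_dvd_right, (hu b t).dvd_iff_dvd_left,
      (hu a s).dvd_iff_dvd_right]
    exact (ValuationRing.dvd_total a b).imp (map_dvd _) (map_dvd _)
  haveI : IsDomain (Localization.AtPrime p) :=
    IsLocalization.isDomain_of_atPrime (Localization.AtPrime p) p
  exact ⟨⟩

variable [Algebra.FinitePresentation V B] (q : Ideal B) [q.IsPrime]

theorem map_le_maximal :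
    (q.comap (algebraMap V B)).map (algebraMap V (Localization.AtPrime q)) ≤
      IsLocalRing.maximalIdeal (Localization.AtPrime q) := by
  rw [Ideal.map_le_iff_le_comap]
  intro v hv
  rw [Ideal.mem_comap, IsScalarTower.algebraMap_apply V B (Localization.AtPrime q)]
  exact (IsLocalization.AtPrime.to_map_mem_maximal_iff (Localization.AtPrime q) q _).2 hv

theorem fp_of_tf (M : Type u) [AddCommGroup M] [Module (Localization.AtPrime q) M]
    [Module.Finite (Localization.AtPrime q) M] (hM : TF V (Localization.AtPrime q) M) :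
    Module.FinitePresentation (Localization.AtPrime q) M := by
  let p := q.comap (algebraMap V B)
  let W := Localization.AtPrime p
  let A := Localization.AtPrime q
  let φ : W →+* A := Localization.localRingHom p q (algebraMap V B) rfl
  letI : Algebra W A := φ.toAlgebra
  haveI : IsLocalHom (algebraMap W A) := Localization.isLocalHom_localRingHom p q (algebraMap V B) rfl
  haveI : IsScalarTower V W A := IsScalarTower.of_algebraMap_eq fun v => by
    rw [IsScalarTower.algebraMap_apply V B A]
    exact (Localization.localRingHom_to_map p q (algebraMap V B) rfl v).symm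
  haveI : Algebra.EssFiniteType B A := Algebra.EssFiniteType.of_isLocalization A q.primeCompl
  haveI : Algebra.EssFiniteType V A := Algebra.EssFiniteType.comp V B A
  haveI : Algebra.EssFiniteType W A := Algebra.EssFiniteType.of_comp V W A
  letI : Module W M := Module.compHom M (algebraMap W A)
  haveI : IsScalarTower W A M := IsScalarTower.of_algebraMap_smul fun _ _ => rfl
  haveI : Module.Flat W M := by
    rw [Module.Flat.flat_iff_torsion_eq_bot_of_isBezout, eq_bot_iff]
    intro x hx
    obtain ⟨⟨w, hw⟩, hwx⟩ := (Submodule.mem_torsion_iff x).1 hx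
    obtain ⟨v, s, rfl⟩ := IsLocalization.exists_mk'_eq p.primeCompl w
    have hv : v ≠ 0 := by
      rintro rfl
      simp at hw
    refine (Submodule.mem_bot _).2 (hM v hv x ?_)
    have hwx' : algebraMap W A (IsLocalization.mk' W v s) • x = 0 := hwx
    rw [IsScalarTower.algebraMap_apply V W A, ← IsLocalization.mk'_spec W v s, map_mul, mul_comm,
      mul_smul, hwx', smul_zero]
  exact S2049.result (A := W)

theorem tf_self [Module.Flat V B] : TF V (Localization.AtPrime q) (Localization.AtPrime q) := by
  haveI : Module.Flat B (Localization.AtPrime q) := IsLocalization.flat _ q.primeCompl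
  haveI : Module.Flat V (Localization.AtPrime q) := Module.Flat.trans V B _
  intro v hv x hx
  have h : v • x = 0 := by rwa [Algebra.smul_def, ← smul_eq_mul]
  have ht : x ∈ Submodule.torsion V (Localization.AtPrime q) :=
    (Submodule.mem_torsion_iff x).2 ⟨⟨v, mem_nonZeroDivisors_of_ne_zero hv⟩, h⟩
  rwa [Module.Flat.torsion_eq_bot, Submodule.mem_bot] at ht

/-- the main bound: torsion-free modules have projective dimension `≤ n` -/
theorem pd_of_tf [Module.Flat V B] (n : ℕ)
    (hreg : IsRegularLocalRing (Localization.AtPrime q ⧸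
      (q.comap (algebraMap V B)).map (algebraMap V (Localization.AtPrime q))))
    (hn : ringKrullDim (Localization.AtPrime q ⧸
      (q.comap (algebraMap V B)).map (algebraMap V (Localization.AtPrime q))) = n)
    (M : Type u) [AddCommGroup M] [Module (Localization.AtPrime q) M]
    [Module.Finite (Localization.AtPrime q) M] (hM : TF V (Localization.AtPrime q) M) :
    HasProjectiveDimensionLT (ModuleCat.of (Localization.AtPrime q) M) (n + 1) := by
  haveI := hreg
  exact pd_of_reduction _ (map_le_maximal B q) (fun N _ _ _ h => fp_of_tf B q N h) (tf_self (V := V) B q) n M hM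
    (S0563.result _ n hn _)

/-- finitely presented modules have projective dimension `≤ n + 1` -/
theorem pd_of_fp [Module.Flat V B] (n : ℕ)
    (hreg : IsRegularLocalRing (Localization.AtPrime q ⧸
      (q.comap (algebraMap V B)).map (algebraMap V (Localization.AtPrime q))))
    (hn : ringKrullDim (Localization.AtPrime q ⧸
      (q.comap (algebraMap V B)).map (algebraMap V (Localization.AtPrime q))) = n)
    (M : Type u) [AddCommGroup M] [Module (Localization.AtPrime q) M]
    [Module.FinitePresentation (Localization.AtPrime q) M] :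
    HasProjectiveDimensionLT (ModuleCat.of (Localization.AtPrime q) M) (n + 2) := by
  obtain ⟨r, f, hf⟩ := exists_pres (A := Localization.AtPrime q) M
  haveI := finite_ker_of_fp f hf
  have hK := pd_of_tf B q n hreg hn (LinearMap.ker f) ((TF.pi (tf_self (V := V) B q)).submodule _)
  haveI := projective_free (Localization.AtPrime q) (ULift.{u} (Fin r) → Localization.AtPrime q)
  exact (shortExact_ker f hf).hasProjectiveDimensionLT_X₃ (n + 1) hK inferInstance

/-- reflexive modules -/
theorem pd_of_reflexive [Module.Flat V B] (n : ℕ)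
    (hreg : IsRegularLocalRing (Localization.AtPrime q ⧸
      (q.comap (algebraMap V B)).map (algebraMap V (Localization.AtPrime q))))
    (hn : ringKrullDim (Localization.AtPrime q ⧸
      (q.comap (algebraMap V B)).map (algebraMap V (Localization.AtPrime q))) = n)
    (M : Type u) [AddCommGroup M] [Module (Localization.AtPrime q) M]
    [Module.FinitePresentation (Localization.AtPrime q) M]
    [Module.IsReflexive (Localization.AtPrime q) M] :
    HasProjectiveDimensionLT (ModuleCat.of (Localization.AtPrime q) M) (n - 1 + 1) := by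
  classical
  let A := Localization.AtPrime q
  -- the dual is finite
  obtain ⟨a, f, hf⟩ := exists_pres (A := A) M
  haveI := finite_ker_of_fp f hf
  obtain ⟨b, g, hg⟩ := exists_pres (A := A) (LinearMap.ker f)
  let d : Module.Dual A (ULift.{u} (Fin a) → A) →ₗ[A] Module.Dual A (ULift.{u} (Fin b) → A) :=
    ((LinearMap.ker f).subtype.comp g).dualMap
  have htfd : ∀ ι : Type u, TF V A (Module.Dual A (ι → A)) := fun ι v hv φ hφ =>
    LinearMap.ext fun x => tf_self (V := V) B q v hv (φ x) (LinearMap.congr_fun hφ x)
  haveI : Module.Finite A (LinearMap.range d) := inferInstance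
  haveI hQfp : Module.FinitePresentation A (LinearMap.range d) :=
    fp_of_tf B q _ ((htfd _).submodule _)
  haveI hDfin : Module.Finite A (LinearMap.ker d) := by
    exact Module.Finite.iff_fg.2 (fg_ker_of d)
  -- the dual of `M` is `ker d`
  have hex : ∀ φ, φ ∈ LinearMap.ker d → ∃ ψ : Module.Dual A M, ψ.comp f = φ := by
    intro φ hφ
    have hle : LinearMap.ker f ≤ LinearMap.ker φ := by
      intro x hx
      obtain ⟨y, hy⟩ := hg ⟨x, hx⟩
      have := LinearMap.congr_fun hφ y
      simp only [d, LinearMap.dualMap_apply, LinearMap.comp_apply, hy, Submodule.subtype_apply,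
        LinearMap.zero_apply] at this
      exact this
    refine ⟨((LinearMap.ker f).liftQ φ hle).comp (f.quotKerEquivOfSurjective hf).symm.toLinearMap,
      LinearMap.ext fun x => ?_⟩
    show (LinearMap.ker f).liftQ φ hle ((f.quotKerEquivOfSurjective hf).symm (f x)) = φ x
    rw [show (f.quotKerEquivOfSurjective hf).symm (f x) = Submodule.Quotient.mk x from
      (LinearEquiv.symm_apply_eq _).2 rfl]
    rfl
  have hinj : Function.Injective f.dualMap := LinearMap.dualMap_injective_of_surjective hf
  have hmem : ∀ ψ : Module.Dual A M, f.dualMap ψ ∈ LinearMap.ker d := by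
    intro ψ
    refine LinearMap.ext fun y => ?_
    show ψ (f ((LinearMap.ker f).subtype (g y))) = 0
    rw [show f ((LinearMap.ker f).subtype (g y)) = 0 from (g y).2, map_zero]
  let e : Module.Dual A M ≃ₗ[A] LinearMap.ker d :=
    LinearEquiv.ofBijective (f.dualMap.codRestrict _ hmem)
      ⟨fun x y h => hinj (congrArg Subtype.val h), fun φ => (hex φ φ.2).imp fun ψ h => Subtype.ext h⟩
  haveI : Module.Finite A (Module.Dual A M) := Module.Finite.equiv e.symm
  -- present the dual
  obtain ⟨c, f', hf'⟩ := exists_pres (A := A) (Module.Dual A M)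
  haveI hDfp : Module.FinitePresentation A (Module.Dual A M) :=
    fp_of_tf B q _ fun v hv φ hφ => LinearMap.ext fun x => tf_self (V := V) B q v hv (φ x) (LinearMap.congr_fun hφ x)
  haveI := finite_ker_of_fp f' hf'
  obtain ⟨l, g', hg'⟩ := exists_pres (A := A) (LinearMap.ker f')
  let d' : Module.Dual A (ULift.{u} (Fin c) → A) →ₗ[A] Module.Dual A (ULift.{u} (Fin l) → A) :=
    ((LinearMap.ker f').subtype.comp g').dualMap
  let i : M →ₗ[A] Module.Dual A (ULift.{u} (Fin c) → A) := f'.dualMap.comp (Module.evalEquiv A M).toLinearMap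
  have hi : Function.Injective i :=
    (LinearMap.dualMap_injective_of_surjective hf').comp (Module.evalEquiv A M).injective
  have hcomp : ∀ m, d' (i m) = 0 := by
    intro m
    refine LinearMap.ext fun y => ?_
    show (Module.evalEquiv A M m) (f' ((LinearMap.ker f').subtype (g' y))) = 0
    rw [show f' ((LinearMap.ker f').subtype (g' y)) = 0 from (g' y).2, map_zero]
  let d'' : Module.Dual A (ULift.{u} (Fin c) → A) →ₗ[A] LinearMap.range d' :=
    LinearMap.codRestrict (LinearMap.range d') d' (LinearMap.mem_range_self d')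
  have hd'' : Function.Surjective d'' := fun y => by
    obtain ⟨x, hx⟩ := y.2
    exact ⟨x, Subtype.ext hx⟩
  have hexact : Function.Exact i d'' := by
    intro φ
    constructor
    · intro hφ
      replace hφ : d' φ = 0 := congrArg Subtype.val hφ
      have hle : LinearMap.ker f' ≤ LinearMap.ker φ := by
        intro x hx
        obtain ⟨y, hy⟩ := hg' ⟨x, hx⟩
        have := LinearMap.congr_fun hφ y
        simp only [d', LinearMap.dualMap_apply, LinearMap.comp_apply, hy, Submodule.subtype_apply,
          LinearMap.zero_apply] at this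
        exact this
      let ψ : Module.Dual A (Module.Dual A M) :=
        ((LinearMap.ker f').liftQ φ hle).comp (f'.quotKerEquivOfSurjective hf').symm.toLinearMap
      obtain ⟨m, hm⟩ := (Module.evalEquiv A M).surjective ψ
      refine ⟨m, LinearMap.ext fun x => ?_⟩
      show (Module.evalEquiv A M m) (f' x) = φ x
      rw [hm]
      show (LinearMap.ker f').liftQ φ hle ((f'.quotKerEquivOfSurjective hf').symm (f' x)) = φ x
      rw [show (f'.quotKerEquivOfSurjective hf').symm (f' x) = Submodule.Quotient.mk x from
        (LinearEquiv.symm_apply_eq _).2 rfl]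
      rfl
    · rintro ⟨m, rfl⟩
      exact Subtype.ext (hcomp m)
  have hS := @shortExact_mk A M (Module.Dual A (ULift.{u} (Fin c) → A)) ↥(LinearMap.range d') _ _ _ _ _ _ _ i d'' hi hd'' hexact
  haveI : Module.Finite A (LinearMap.range d') := inferInstance
  have hQ := pd_of_tf B q n hreg hn (LinearMap.range d') ((htfd _).submodule _)
  haveI := projective_free A (Module.Dual A (ULift.{u} (Fin c) → A))
  rcases n with _ | n
  · exact hS.hasProjectiveDimensionLT_X₁ 1 inferInstance (hasProjectiveDimensionLT_of_ge _ 1 2 (by omega))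
  · exact hS.hasProjectiveDimensionLT_X₁ (n + 1) inferInstance hQ

end Localization

end Groth.Agent.H4ValPd
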